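import Mathlib

set_option linter.unusedSectionVars false
set_option linter.unusedVariables false
set_option linter.unusedSimpArgs false
set_option autoImplicit false
set_option maxHeartbeats 400000

noncomputable section

namespace Groth.Agent.Lib.Helper6.LineSub

open Polynomial

universe u

variable {k : Type u} [Field k] {r : ℕ}

/-- the substitution `X_j ↦ X_j T`. -/
def phi : MvPolynomial (Fin r) k →+* (MvPolynomial (Fin r) k)[X] :=
  MvPolynomial.eval₂Hom (Polynomial.C.comp MvPolynomial.C)
    (fun j => Polynomial.C (MvPolynomial.X j) * Polynomial.X)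

/-- scaling of the `X_j` by a new variable `U`. -/
def PhiR : MvPolynomial (Fin r) k →+* ((MvPolynomial (Fin r) k)[X])[X] :=
  MvPolynomial.eval₂Hom (Polynomial.C.comp (Polynomial.C.comp MvPolynomial.C))
    (fun j => Polynomial.C (Polynomial.C (MvPolynomial.X j)) * Polynomial.X)

/-- scaling of all variables by `U`. -/
def Phi : (MvPolynomial (Fin r) k)[X] →+* ((MvPolynomial (Fin r) k)[X])[X] :=
  Polynomial.eval₂RingHom (PhiR (k := k) (r := r))
    ((Polynomial.C (Polynomial.X : (MvPolynomial (Fin r) k)[X]) * Polynomial.X :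
      ((MvPolynomial (Fin r) k)[X])[X]))

lemma Phi_C (p : MvPolynomial (Fin r) k) : Phi (Polynomial.C p) = PhiR p := by
  simp [Phi]

lemma Phi_X : Phi (Polynomial.X : (MvPolynomial (Fin r) k)[X]) = Polynomial.C Polynomial.X * Polynomial.X := by
  simp [Phi]

/-- general monomial computation. -/
lemma eval₂_scaled_monomial {B : Type*} [CommRing B] (c : k →+* B) (x : Fin r → B) (t : B)
    (α : Fin r →₀ ℕ) (a : k) :
    MvPolynomial.eval₂ c (fun j => x j * t) (MvPolynomial.monomial α a) =
      MvPolynomial.eval₂ c x (MvPolynomial.monomial α a) * t ^ (α.sum fun _ e => e) := by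
  rw [MvPolynomial.eval₂_monomial, MvPolynomial.eval₂_monomial]
  simp only [mul_pow, Finsupp.prod, Finsupp.sum, Finset.prod_mul_distrib, Finset.prod_pow_eq_pow_sum]
  ring

lemma phi_monomial (α : Fin r →₀ ℕ) (a : k) :
    phi (MvPolynomial.monomial α a) =
      Polynomial.C (MvPolynomial.monomial α a) * Polynomial.X ^ (α.sum fun _ e => e) := by
  have h1 : ∀ p : MvPolynomial (Fin r) k,
      MvPolynomial.eval₂ (Polynomial.C.comp MvPolynomial.C)
        (fun j => (Polynomial.C (MvPolynomial.X j) : (MvPolynomial (Fin r) k)[X])) p = Polynomial.C p := by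
    intro p
    induction p using MvPolynomial.induction_on with
    | C a => simp
    | add p q hp hq => rw [MvPolynomial.eval₂_add, hp, hq, map_add]
    | mul_X p i hp => rw [MvPolynomial.eval₂_mul, hp, MvPolynomial.eval₂_X, map_mul]
  change MvPolynomial.eval₂ _ _ _ = _
  rw [eval₂_scaled_monomial (Polynomial.C.comp MvPolynomial.C)
    (fun j => (Polynomial.C (MvPolynomial.X j) : (MvPolynomial (Fin r) k)[X])) Polynomial.X α a, h1]

lemma PhiR_monomial (α : Fin r →₀ ℕ) (a : k) :
    PhiR (MvPolynomial.monomial α a) =
      Polynomial.C (Polynomial.C (MvPolynomial.monomial α a)) * Polynomial.X ^ (α.sum fun _ e => e) := by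
  have h1 : ∀ p : MvPolynomial (Fin r) k,
      MvPolynomial.eval₂ (Polynomial.C.comp (Polynomial.C.comp MvPolynomial.C))
        (fun j => (Polynomial.C (Polynomial.C (MvPolynomial.X j)) :
          ((MvPolynomial (Fin r) k)[X])[X])) p = Polynomial.C (Polynomial.C p) := by
    intro p
    induction p using MvPolynomial.induction_on with
    | C a => simp
    | add p q hp hq => rw [MvPolynomial.eval₂_add, hp, hq, map_add, map_add]
    | mul_X p i hp => rw [MvPolynomial.eval₂_mul, hp, MvPolynomial.eval₂_X, map_mul, map_mul]
  change MvPolynomial.eval₂ _ _ _ = _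
  rw [eval₂_scaled_monomial (Polynomial.C.comp (Polynomial.C.comp MvPolynomial.C))
    (fun j => (Polynomial.C (Polynomial.C (MvPolynomial.X j)) :
          ((MvPolynomial (Fin r) k)[X])[X])) Polynomial.X α a, h1]

/-- evaluation at `U = 1` undoes `Phi`. -/
lemma eval_one_Phi (P : (MvPolynomial (Fin r) k)[X]) : (Phi P).eval 1 = P := by
  have h1 : ∀ p : MvPolynomial (Fin r) k, (PhiR p).eval 1 = Polynomial.C p := by
    intro p
    induction p using MvPolynomial.induction_on with
    | C a => simp [PhiR]
    | add p q hp hq => rw [map_add, Polynomial.eval_add, hp, hq, map_add]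
    | mul_X p i hp =>
      rw [map_mul, Polynomial.eval_mul, hp, map_mul]
      simp [PhiR]
  induction P using Polynomial.induction_on' with
  | add p q hp hq => rw [map_add, Polynomial.eval_add, hp, hq]
  | monomial n a =>
    rw [← Polynomial.C_mul_X_pow_eq_monomial, map_mul, map_pow, Phi_C, Phi_X, Polynomial.eval_mul,
      Polynomial.eval_pow, h1, Polynomial.eval_mul, Polynomial.eval_C, Polynomial.eval_X, mul_one]

lemma Phi_injective : Function.Injective (Phi (k := k) (r := r)) := by
  intro P Q h
  rw [← eval_one_Phi P, ← eval_one_Phi Q, h]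

lemma Phi_ne_zero {P : (MvPolynomial (Fin r) k)[X]} (h : P ≠ 0) : Phi P ≠ 0 := by
  intro h'
  apply h
  apply Phi_injective
  rw [h', map_zero]

/-- evaluation at `T = 1` undoes `phi`. -/
lemma eval_one_phi (F : MvPolynomial (Fin r) k) : (phi F).eval 1 = F := by
  induction F using MvPolynomial.induction_on with
  | C a => simp [phi]
  | add p q hp hq => rw [map_add, Polynomial.eval_add, hp, hq]
  | mul_X p i hp =>
    rw [map_mul, Polynomial.eval_mul, hp]
    simp [phi]

lemma coeff_zero_phi (F : MvPolynomial (Fin r) k) :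
    (phi F).coeff 0 = MvPolynomial.C (MvPolynomial.eval (fun _ => (0 : k)) F) := by
  rw [Polynomial.coeff_zero_eq_eval_zero]
  induction F using MvPolynomial.induction_on with
  | C a => simp [phi]
  | add p q hp hq => rw [map_add, Polynomial.eval_add, hp, hq, map_add, map_add]
  | mul_X p i hp =>
    rw [map_mul, Polynomial.eval_mul, hp]
    simp [phi]

lemma reflect_sum {R : Type*} [Semiring R] {ι : Type*} (s : Finset ι) (f : ι → R[X]) (N : ℕ) :
    reflect N (∑ i ∈ s, f i) = ∑ i ∈ s, reflect N (f i) := by
  classical
  induction s using Finset.induction_on with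
  | empty => simp
  | insert a s ha ih => rw [Finset.sum_insert ha, Finset.sum_insert ha, reflect_add, ih]

/-- homogeneity of the reflected polynomial, and evaluation at `T = 1`. -/
lemma reflect_phi (F : MvPolynomial (Fin r) k) (N : ℕ) (hN : F.totalDegree ≤ N) :
    Phi (reflect N (phi F)) = Polynomial.C (reflect N (phi F)) * Polynomial.X ^ N ∧
      (reflect N (phi F)).eval 1 = F := by
  have hF : F = ∑ α ∈ F.support, MvPolynomial.monomial α (F.coeff α) := F.as_sum
  have key : ∀ α ∈ F.support, Phi (reflect N (phi (MvPolynomial.monomial α (F.coeff α)))) =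
      Polynomial.C (reflect N (phi (MvPolynomial.monomial α (F.coeff α)))) * Polynomial.X ^ N ∧
      (reflect N (phi (MvPolynomial.monomial α (F.coeff α)))).eval 1 =
        MvPolynomial.monomial α (F.coeff α) := by
    intro α hα
    have hle : (α.sum fun _ e => e) ≤ N := le_trans (MvPolynomial.le_totalDegree hα) hN
    rw [phi_monomial, reflect_C_mul_X_pow, revAt_le hle]
    obtain ⟨e, he⟩ := Nat.exists_eq_add_of_le hle
    have he' : N - (α.sum fun _ e => e) = e := by omega
    rw [he']
    constructor
    · rw [map_mul, map_pow, Phi_C, Phi_X, PhiR_monomial, he]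
      simp only [map_mul, map_pow, mul_pow, pow_add]
      ring
    · simp
  have hsum : reflect N (phi F) =
      ∑ α ∈ F.support, reflect N (phi (MvPolynomial.monomial α (F.coeff α))) := by
    conv_lhs => rw [hF]
    rw [map_sum, reflect_sum]
  rw [hsum]
  constructor
  · rw [map_sum, map_sum, Finset.sum_mul]
    apply Finset.sum_congr rfl
    intro α hα
    exact (key α hα).1
  · rw [Polynomial.eval_finsetSum]
    conv_rhs => rw [hF]
    apply Finset.sum_congr rfl
    intro α hα
    exact (key α hα).2

end Groth.Agent.Lib.Helper6.LineSub
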