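import Groth.Agent.Lib.Helper6.LineSub.Hom

set_option linter.unusedSectionVars false
set_option linter.unusedVariables false
set_option linter.unusedSimpArgs false
set_option autoImplicit false
set_option maxHeartbeats 400000

noncomputable section

namespace Groth.Agent.Lib.Helper6.LineSub

open Polynomial

universe u

variable {k : Type u} [Field k] {r : ℕ}

lemma eq_C_mul_X_pow_of_degrees {R : Type*} [Semiring R] (p : R[X]) (n : ℕ)
    (h1 : p.natDegree = n) (h2 : p.natTrailingDegree = n) : p = C (p.coeff n) * X ^ n := by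
  ext i
  rw [Polynomial.coeff_C_mul_X_pow]
  by_cases h : i = n
  · subst h; simp
  · rw [if_neg h]
    rcases lt_or_gt_of_ne h with h' | h'
    · exact Polynomial.coeff_eq_zero_of_lt_natTrailingDegree (by omega)
    · exact Polynomial.coeff_eq_zero_of_natDegree_lt (by omega)

lemma hom_of_mul {P Q H : (MvPolynomial (Fin r) k)[X]} {N : ℕ} (hH : H ≠ 0) (hPQ : P * Q = H)
    (hhom : Phi H = Polynomial.C H * Polynomial.X ^ N) :
    ∃ n, Phi P = Polynomial.C P * Polynomial.X ^ n := by
  have hP : P ≠ 0 := by rintro rfl; exact hH (by rw [← hPQ, zero_mul])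
  have hQ : Q ≠ 0 := by rintro rfl; exact hH (by rw [← hPQ, mul_zero])
  have hpP := Phi_ne_zero hP
  have hpQ := Phi_ne_zero hQ
  have hmul : Phi P * Phi Q = Polynomial.C H * Polynomial.X ^ N := by
    rw [← map_mul, hPQ, hhom]
  have hCH : (Polynomial.C H : ((MvPolynomial (Fin r) k)[X])[X]) ≠ 0 := by
    rwa [Ne, Polynomial.C_eq_zero]
  have d1 : (Phi P * Phi Q).natDegree = (Phi P).natDegree + (Phi Q).natDegree :=
    Polynomial.natDegree_mul hpP hpQ
  have t1 : (Phi P * Phi Q).natTrailingDegree = (Phi P).natTrailingDegree + (Phi Q).natTrailingDegree :=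
    Polynomial.natTrailingDegree_mul hpP hpQ
  have d2 : (Polynomial.C H * Polynomial.X ^ N : ((MvPolynomial (Fin r) k)[X])[X]).natDegree = N :=
    Polynomial.natDegree_C_mul_X_pow N H hH
  have t2 : (Polynomial.C H * Polynomial.X ^ N : ((MvPolynomial (Fin r) k)[X])[X]).natTrailingDegree = N := by
    rw [Polynomial.natTrailingDegree_mul_X_pow hCH, Polynomial.natTrailingDegree_C, zero_add]
  rw [hmul] at d1 t1
  have l1 := Polynomial.natTrailingDegree_le_natDegree (Phi P)
  have l2 := Polynomial.natTrailingDegree_le_natDegree (Phi Q)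
  have e1 : (Phi P).natTrailingDegree = (Phi P).natDegree := by omega
  refine ⟨(Phi P).natDegree, ?_⟩
  have h3 := eq_C_mul_X_pow_of_degrees (Phi P) (Phi P).natDegree rfl e1
  have h4 := eval_one_Phi P
  conv_lhs at h4 => rw [h3]
  rw [Polynomial.eval_mul, Polynomial.eval_C, Polynomial.eval_pow, Polynomial.eval_X, one_pow, mul_one] at h4
  rw [h4] at h3
  exact h3

lemma finish {P : (MvPolynomial (Fin r) k)[X]} {n : ℕ} {c : k}
    (hhom : Phi P = Polynomial.C P * Polynomial.X ^ n)
    (hev : P.eval 1 = MvPolynomial.C c) :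
    P = Polynomial.C (MvPolynomial.C c) * Polynomial.X ^ n := by
  set P0 := P - Polynomial.C (MvPolynomial.C c) * Polynomial.X ^ n with hP0
  have hhom0 : Phi P0 = Polynomial.C P0 * Polynomial.X ^ n := by
    rw [hP0, map_sub, hhom, map_mul, map_pow, Phi_C, Phi_X]
    have : PhiR (MvPolynomial.C c : MvPolynomial (Fin r) k) =
        Polynomial.C (Polynomial.C (MvPolynomial.C c)) := by simp [PhiR]
    rw [this]
    simp only [map_sub, map_mul, map_pow, mul_pow]
    ring
  have hev0 : P0.eval 1 = 0 := by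
    rw [hP0, Polynomial.eval_sub, hev]; simp
  by_contra hne
  have hP0ne : P0 ≠ 0 := by
    intro h
    apply hne
    have := sub_eq_zero.mp h
    exact this
  have hdvd : (Polynomial.X - Polynomial.C 1 : (MvPolynomial (Fin r) k)[X]) ∣ P0 :=
    Polynomial.dvd_iff_isRoot.mpr hev0
  obtain ⟨Q, hQ⟩ := hdvd
  have hQne : Q ≠ 0 := by rintro rfl; exact hP0ne (by rw [hQ, mul_zero])
  set W : ((MvPolynomial (Fin r) k)[X])[X] := Polynomial.C Polynomial.X * Polynomial.X - Polynomial.C 1 with hW
  have hWeq : Phi (Polynomial.X - Polynomial.C 1 : (MvPolynomial (Fin r) k)[X]) = W := by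
    rw [map_sub, Phi_X, Phi_C]
    simp [PhiR, hW]
  have hXne : (Polynomial.X : (MvPolynomial (Fin r) k)[X]) ≠ 0 := Polynomial.X_ne_zero
  have hWd : W.natDegree = 1 := by
    rw [hW, Polynomial.natDegree_sub_C, Polynomial.natDegree_C_mul_X _ hXne]
  have hWne : W ≠ 0 := by
    intro h; rw [h] at hWd; simp at hWd
  have hWt : W.natTrailingDegree = 0 := by
    have : W.coeff 0 ≠ 0 := by
      rw [hW]; simp
    have := Polynomial.natTrailingDegree_le_of_ne_zero this
    omega
  have hmul : W * Phi Q = Polynomial.C P0 * Polynomial.X ^ n := by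
    rw [← hWeq, ← map_mul, ← hQ, hhom0]
  have hpQ := Phi_ne_zero hQne
  have d1 : (W * Phi Q).natDegree = W.natDegree + (Phi Q).natDegree := Polynomial.natDegree_mul hWne hpQ
  have t1 : (W * Phi Q).natTrailingDegree = W.natTrailingDegree + (Phi Q).natTrailingDegree :=
    Polynomial.natTrailingDegree_mul hWne hpQ
  have hCP : (Polynomial.C P0 : ((MvPolynomial (Fin r) k)[X])[X]) ≠ 0 := by
    rwa [Ne, Polynomial.C_eq_zero]
  have d2 : (Polynomial.C P0 * Polynomial.X ^ n : ((MvPolynomial (Fin r) k)[X])[X]).natDegree = n :=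
    Polynomial.natDegree_C_mul_X_pow n P0 hP0ne
  have t2 : (Polynomial.C P0 * Polynomial.X ^ n : ((MvPolynomial (Fin r) k)[X])[X]).natTrailingDegree = n := by
    rw [Polynomial.natTrailingDegree_mul_X_pow hCP, Polynomial.natTrailingDegree_C, zero_add]
  rw [hmul] at d1 t1
  have l2 := Polynomial.natTrailingDegree_le_natDegree (Phi Q)
  omega

lemma case_lemma (A B : (MvPolynomial (Fin r) k)[X]) (a' : ℕ) (c : k) (hc : c ≠ 0) (n : ℕ)
    (hA' : reflect a' A = Polynomial.C (MvPolynomial.C c) * Polynomial.X ^ n)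
    (h0 : (A * B).coeff 0 ≠ 0) : IsUnit A := by
  have hA : A = Polynomial.C (MvPolynomial.C c) * Polynomial.X ^ (revAt a' n) := by
    rw [← reflect_reflect (N := a') (p := A), hA', reflect_C_mul_X_pow]
  rcases Nat.eq_zero_or_pos (revAt a' n) with he | he
  · rw [he, pow_zero, mul_one] at hA
    rw [hA]
    apply Polynomial.isUnit_C.mpr
    exact (isUnit_iff_ne_zero.mpr hc).map MvPolynomial.C
  · exfalso
    apply h0
    rw [Polynomial.mul_coeff_zero, hA, Polynomial.coeff_C_mul_X_pow, if_neg (by omega), zero_mul]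

theorem irreducible_phi (F : MvPolynomial (Fin r) k) (hF : Irreducible F)
    (hF0 : MvPolynomial.eval (fun _ => (0 : k)) F ≠ 0) : Irreducible (phi F) := by
  have hG0 : (phi F).coeff 0 ≠ 0 := by
    rw [coeff_zero_phi]
    intro h
    apply hF0
    exact MvPolynomial.C_injective _ _ (by rw [h, map_zero])
  have hGne : phi F ≠ 0 := by
    intro h; rw [h] at hG0; simp at hG0
  rw [irreducible_iff]
  constructor
  · intro hu
    obtain ⟨g0, hg0, hg⟩ := Polynomial.isUnit_iff.mp hu
    apply hF.not_isUnit
    have := eval_one_phi F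
    rw [← hg, Polynomial.eval_C] at this
    rw [← this]; exact hg0
  · intro A B hAB
    have hA : A ≠ 0 := by rintro rfl; exact hGne (by rw [hAB, zero_mul])
    have hB : B ≠ 0 := by rintro rfl; exact hGne (by rw [hAB, mul_zero])
    set a' := A.natDegree + F.totalDegree with ha'
    set b' := B.natDegree + F.totalDegree with hb'
    -- first version: weight on A
    have hrefl : reflect (a' + B.natDegree) (A * B) = reflect a' A * reflect B.natDegree B :=
      reflect_mul A B (by omega) le_rfl
    obtain ⟨hhom, hev⟩ := reflect_phi F (a' + B.natDegree) (by omega)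
    rw [hAB, hrefl] at hhom hev
    have hHne : reflect a' A * reflect B.natDegree B ≠ 0 := by
      rw [← hrefl, Ne, reflect_eq_zero_iff, ← hAB]; exact hGne
    obtain ⟨nA, hnA⟩ := hom_of_mul hHne rfl hhom
    obtain ⟨nB, hnB⟩ := hom_of_mul hHne (mul_comm _ _) hhom
    rw [Polynomial.eval_mul] at hev
    rcases hF.isUnit_or_isUnit hev.symm with hu | hu
    · obtain ⟨c, hc, hce⟩ := MvPolynomial.isUnit_iff_eq_C_of_isReduced.mp hu
      have := finish hnA hce
      exact Or.inl (case_lemma A B a' c hc.ne_zero nA this (by rw [← hAB]; exact hG0))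
    · obtain ⟨c, hc, hce⟩ := MvPolynomial.isUnit_iff_eq_C_of_isReduced.mp hu
      have := finish hnB hce
      exact Or.inr (case_lemma B A B.natDegree c hc.ne_zero nB this
        (by rw [mul_comm, ← hAB]; exact hG0))

theorem main (F : MvPolynomial (Fin r) k) (hF : Irreducible F)
    (hF0 : MvPolynomial.eval (fun _ => (0 : k)) F ≠ 0) :
    Irreducible ((phi F).map
      (algebraMap (MvPolynomial (Fin r) k) (FractionRing (MvPolynomial (Fin r) k)))) := by
  have hprim : (phi F).IsPrimitive := by
    intro p hp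
    rw [Polynomial.C_dvd_iff_dvd_coeff] at hp
    have h0 := hp 0
    rw [coeff_zero_phi] at h0
    apply isUnit_of_dvd_unit h0
    exact (isUnit_iff_ne_zero.mpr hF0).map MvPolynomial.C
  exact (Polynomial.IsPrimitive.irreducible_iff_irreducible_map_fraction_map hprim).mp
    (irreducible_phi F hF hF0)

end Groth.Agent.Lib.Helper6.LineSub
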